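import Groth.Agent.Big.Comap
import Groth.Agent.PPSheaf.FlatPr
import Groth.Agent.QCoh.Pullback
import Mathlib.Algebra.Category.ModuleCat.Sheaf.PullbackFree
import Groth.Agent.PnCoh.Unit
import Groth.Agent.RelTildeX.SheafCrit

/-! The ideal of an inverse image under a flat morphism is the pullback of the ideal. -/

set_option autoImplicit false
set_option linter.style.haveILetI false
set_option backward.isDefEq.respectTransparency false
set_option backward.isDefEq.respectTransparency.types false

universe u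

open CategoryTheory CategoryTheory.Limits AlgebraicGeometry TopologicalSpace Opposite

noncomputable section

namespace Groth.Agent.H9LiftLF

variable {X S : Scheme.{u}} (f : X ⟶ S) [Flat f] (I : S.IdealSheafData)

theorem nonempty_idealMod_comap :
    Nonempty ((Scheme.Modules.pullback f).obj (ClSub.idealMod I) ≅ ClSub.idealMod (I.comap f)) := by
  obtain ⟨α, hα⟩ := Big.exists_idealPush f I
  let adj := Scheme.Modules.pullbackPushforwardAdjunction f
  let β := (adj.homEquiv _ _).symm α
  have hβ : adj.unit.app (ClSub.idealMod I) ≫ (Scheme.Modules.pushforward f).map β = α :=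
    (Adjunction.homEquiv_unit _ _ _ _).symm.trans ((adj.homEquiv _ _).apply_symm_apply α)
  have hval : ∀ (U : S.Opens) (s : Γ(ClSub.idealMod I, U)),
      OmegaSh.idealSect (I.comap f) (f ⁻¹ᵁ U) (β.app (f ⁻¹ᵁ U) (InvX.pullElt f s)) =
        f.app U (OmegaSh.idealSect I U s) := fun U s => by
    rw [← hα U s, ← hβ]
    rfl
  haveI hepi : Epi β := by
    refine RelTildeX.epi_of_locally β fun W t x hx => ?_
    obtain ⟨U, hU, hxU, -⟩ := exists_isAffineOpen_mem_and_subset (x := f x) (U := ⊤) trivial
    obtain ⟨V, hV, hxV, hVle⟩ := exists_isAffineOpen_mem_and_subset (show x ∈ W ⊓ f ⁻¹ᵁ U from ⟨hx, hxU⟩)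
    have hVW : V ≤ W := fun z hz => (hVle hz).1
    have hVU : V ≤ f ⁻¹ᵁ U := fun z hz => (hVle hz).2
    refine ⟨V, hVW, hxV, ?_⟩
    let t' := (ClSub.idealMod (I.comap f)).presheaf.map (homOfLE hVW).op t
    suffices h : ∀ r ∈ (I.comap f).ideal ⟨V, hV⟩, ∃ y : Γ((Scheme.Modules.pullback f).obj (ClSub.idealMod I), V),
        OmegaSh.idealSect (I.comap f) V (β.app V y) = r by
      obtain ⟨y, hy⟩ := h _ (OmegaLib.idealSect_mem (I.comap f) ⟨V, hV⟩ t')
      exact ⟨y, OmegaLib.idealSect_injective (I.comap f) V hy⟩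
    intro r hr
    rw [ModPairLib.ideal_comap I f ⟨U, hU⟩ ⟨V, hV⟩ hVU, Ideal.map] at hr
    refine Submodule.span_induction (p := fun r _ => ∃ y : Γ((Scheme.Modules.pullback f).obj (ClSub.idealMod I), V),
        OmegaSh.idealSect (I.comap f) V (β.app V y) = r) ?_ ?_ ?_ ?_ hr
    · rintro _ ⟨a, ha, rfl⟩
      obtain ⟨s, hs⟩ := OmegaLib.exists_of_mem I ⟨U, hU⟩ a ha
      refine ⟨AModX.res _ hVU (InvX.pullElt f s), ?_⟩
      rw [AModX.app_res]
      refine (OmegaLib.idealSect_map (I.comap f) hVU (β.app (f ⁻¹ᵁ U) (InvX.pullElt f s))).trans ?_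
      rw [hval, hs, Scheme.Hom.appLE]
      rfl
    · refine ⟨0, ?_⟩
      rw [map_zero]
      exact map_zero ((ClSub.idealModι (I.comap f)).app V).hom
    · rintro a b - - ⟨y, rfl⟩ ⟨z, rfl⟩
      refine ⟨y + z, ?_⟩
      rw [map_add]
      exact map_add ((ClSub.idealModι (I.comap f)).app V).hom _ _
    · rintro c a - ⟨y, rfl⟩
      refine ⟨c • y, ?_⟩
      rw [Scheme.Modules.Hom.app_smul, OmegaLib.idealSect_smul]
      rfl
  haveI := PPSheaf.preservesFiniteLimits_pullback f
  haveI : Mono (ClSub.idealModι I) := by unfold ClSub.idealModι; infer_instance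
  let μ := adj.homEquiv _ _ |>.symm (ClSub.unitToPush f)
  have hμ : β ≫ ClSub.idealModι (I.comap f) = (Scheme.Modules.pullback f).map (ClSub.idealModι I) ≫ μ := by
    apply (adj.homEquiv _ _).injective
    rw [Adjunction.homEquiv_naturality_right, Adjunction.homEquiv_naturality_left, Equiv.apply_symm_apply,
      Equiv.apply_symm_apply]
    refine Scheme.Modules.hom_ext _ _ fun U => ?_
    ext s
    exact hα U s
  haveI : IsIso μ := by
    have e : μ = SheafOfModules.pullbackObjUnitToUnit f.toRingCatSheafHom := by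
      apply (adj.homEquiv _ _).injective
      rw [Equiv.apply_symm_apply]
      refine Eq.trans ?_ ((adj.homEquiv _ _).apply_symm_apply _).symm
      rfl
    rw [e]
    exact inferInstanceAs (IsIso (SheafOfModules.pullbackObjUnitToUnit f.toRingCatSheafHom))
  haveI : Mono β := by
    haveI : Mono (β ≫ ClSub.idealModι (I.comap f)) := by rw [hμ]; infer_instance
    exact mono_of_mono β (ClSub.idealModι (I.comap f))
  haveI := isIso_of_mono_of_epi β
  exact ⟨asIso β⟩

end Groth.Agent.H9LiftLF

end
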