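import Groth.Agent.H9LiftLF.Inv
import Groth.Agent.S3236
import Groth.Agent.QCoh.ProperOver
import Groth.Agent.InvX.Pullback

/-! Lifting invertible modules along small extensions. -/

set_option autoImplicit false
set_option linter.style.haveILetI false
set_option backward.isDefEq.respectTransparency false
set_option backward.isDefEq.respectTransparency.types false

universe u

open CategoryTheory CategoryTheory.Limits AlgebraicGeometry TopologicalSpace Opposite Abelian

noncomputable section

namespace Groth.Agent.H9LiftLF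

open Groth.Agent.AmpleVan (scal)

theorem subsingleton_HH_biproduct {Z : Scheme.{u}} {R₀ : Type u} [Fintype R₀] (G : R₀ → Z.Modules) {n : ℕ}
    (h : ∀ j, Subsingleton (Coh.HH Z (G j) n)) : Subsingleton (Coh.HH Z (⨁ G) n) := by
  have key : ∀ z : Coh.HH Z (⨁ G) n, z = 0 := fun z => by
    have e : (∑ j, biproduct.π G j ≫ biproduct.ι G j) = 𝟙 (⨁ G) := by
      refine biproduct.hom_ext' _ _ fun j => ?_
      rw [Preadditive.comp_sum, Finset.sum_eq_single j (fun b _ hb => by
        rw [← Category.assoc, biproduct.ι_π_ne _ hb.symm, zero_comp])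
        (fun h => absurd (Finset.mem_univ j) h), biproduct.ι_π_self_assoc]
      exact (Category.comp_id _).symm
    have e' := congrArg (fun t => (QCoh.toAbFunctor Z).map t) e
    simp only [Functor.map_sum, CategoryTheory.Functor.map_id, Functor.map_comp] at e'
    rw [← Ext.comp_mk₀_id z]
    refine (congrArg (fun t => Ext.comp z (Ext.mk₀ t) (add_zero n)) e'.symm).trans ?_
    rw [Ext.mk₀_sum, Ext.comp_sum]
    refine Finset.sum_eq_zero fun j _ => ?_
    rw [← Ext.mk₀_comp_mk₀, ← Ext.comp_assoc_of_third_deg_zero,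
      (h j).elim (Ext.comp z (Ext.mk₀ ((QCoh.toAbFunctor Z).map (biproduct.π G j))) (add_zero n)) 0, Ext.zero_comp]
  exact ⟨fun x y => (key x).trans (key y).symm⟩

theorem isSeparated_of_thick {X₀ X : Scheme.{u}} {R K : Type u} [CommRing R] [CommRing K] (ψ : R →+* K)
    (hψ : Function.Surjective ψ) (hnil : RingHom.ker ψ ≤ nilradical R)
    {i : X₀ ⟶ X} {q₀ : X₀ ⟶ Spec (CommRingCat.of K)} {f : X ⟶ Spec (CommRingCat.of R)}
    (sq : IsPullback i q₀ f (Spec.map (CommRingCat.ofHom ψ))) [X₀.IsSeparated] : X.IsSeparated := by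
  haveI : Surjective (Spec.map (CommRingCat.ofHom ψ)) := ⟨fun p => by
    have h : p ∈ Set.range (PrimeSpectrum.comap ψ) := by
      rw [range_comap_of_surjective _ _ hψ]
      exact fun a ha => nilradical_le_prime p.asIdeal (hnil ha)
    exact h⟩
  haveI : IsClosedImmersion (Spec.map (CommRingCat.ofHom ψ)) := IsClosedImmersion.spec_of_surjective _ hψ
  haveI : Surjective i := MorphismProperty.of_isPullback (P := @Surjective) sq.flip inferInstance
  haveI : IsClosedImmersion i := MorphismProperty.of_isPullback (P := @IsClosedImmersion) sq.flip inferInstance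
  haveI : IsSeparated (i ≫ terminal.from X) := by
    rw [terminalIsTerminal.hom_ext (i ≫ terminal.from X) (terminal.from X₀)]
    infer_instance
  exact ⟨QCoh.isSeparated_of_comp_surjective i _⟩

variable {A : Type u} [CommRing A] [IsLocalRing A] {X X₁ X₀ : Scheme.{u}} [X.Over (Spec (CommRingCat.of A))]
  [Flat (X ↘ Spec (CommRingCat.of A))] {C K : Type u} [CommRing C] [CommRing K]
  {j : X₁ ⟶ X} [IsClosedImmersion j] {i : X₀ ⟶ X} [IsClosedImmersion i]
  {q : X₁ ⟶ Spec (CommRingCat.of C)} {q₀ : X₀ ⟶ Spec (CommRingCat.of K)} (φ : A →+* C) (ψ : A →+* K)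

/-- Invertible modules lift along small extensions without second cohomology. -/
theorem exists_lift_small [X.IsSeparated] (hφ : Function.Surjective φ) (hψ : Function.Surjective ψ)
    (hmax : RingHom.ker ψ = IsLocalRing.maximalIdeal A) (hle : RingHom.ker φ ≤ RingHom.ker ψ)
    (hfg : (RingHom.ker φ).FG) (hann : RingHom.ker ψ * RingHom.ker φ = ⊥)
    (sq : IsPullback j q (X ↘ Spec (CommRingCat.of A)) (Spec.map (CommRingCat.ofHom φ)))
    (sq₀ : IsPullback i q₀ (X ↘ Spec (CommRingCat.of A)) (Spec.map (CommRingCat.ofHom ψ)))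
    (h2 : Subsingleton (Coh.HH X₀ (Coh.structureModule X₀) 2)) {L₁ : X₁.Modules} (hL₁ : PicF.IsInvertible L₁) :
    ∃ L : X.Modules, PicF.IsInvertible L ∧ Nonempty ((Scheme.Modules.pullback j).obj L ≅ L₁) := by
  obtain ⟨R₀, _, c, hc, hind⟩ := exists_minimal_gens hfg
  let I := j.ker
  have hI : ∀ U : X.affineOpens, I.ideal U = Ideal.span (Set.range fun l => scal A U.1 (c l)) := fun U => by
    rw [ker_ideal_of_surjective φ hφ sq U, ← hc, Ideal.map_span, ← Set.range_comp]
    rfl
  have hi : ∀ U : X.affineOpens, i.ker.ideal U = (RingHom.ker ψ).map (scal A U.1) := fun U =>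
    ker_ideal_of_surjective ψ hψ sq₀ U
  obtain ⟨hk, ⟨θ⟩⟩ := exists_ideal_free (i := i) (I := I) c hI
    (fun U a ha l => by
      have h : a * scal A U.1 (c l) ∈ (RingHom.ker ψ * RingHom.ker φ).map (scal A U.1) := by
        rw [Ideal.map_mul]
        refine Ideal.mul_mem_mul (hi U ▸ ha) (Ideal.mem_map_of_mem _ ?_)
        rw [← hc]
        exact Ideal.subset_span ⟨l, rfl⟩
      rwa [hann, Ideal.map_bot, Ideal.mem_bot] at h)
    (fun U b hb l => by
      rw [hi U]
      exact mem_of_sum_eq_zero c _ (fun a ha => hmax ▸ hind a ha) U b hb l)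
  have hI2 : I * I = ⊥ := by
    refine Scheme.IdealSheafData.ext (funext fun U => ?_)
    rw [Scheme.IdealSheafData.ideal_mul, Pi.mul_apply, Scheme.IdealSheafData.ideal_bot, Pi.bot_apply,
      ker_ideal_of_surjective φ hφ sq U, ← Ideal.map_mul, ← le_bot_iff]
    calc _ ≤ (RingHom.ker ψ * RingHom.ker φ).map (scal A U.1) := Ideal.map_mono (Ideal.mul_mono_left hle)
      _ = ⊥ := by rw [hann, Ideal.map_bot]
  haveI hu := isIso_unit_of_killed i (PPSheaf.GrCoh.isQCoh_idealMod I) hk
  obtain ⟨ω⟩ := PicClLib.nonempty_pullback_structureModule i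
  have h0 : Subsingleton (Coh.HH X₀ ((Scheme.Modules.pullback i).obj (ClSub.idealMod I)) 2) :=
    (UnitsLib.Hiso ((QCoh.toAbFunctor X₀).mapIso (θ ≪≫ biproduct.mapIso fun _ => ω)) 2).toEquiv.subsingleton_congr.2
      (subsingleton_HH_biproduct _ fun _ => h2)
  have hX : Subsingleton (Coh.HH X (ClSub.idealMod I) 2) := by
    obtain ⟨e⟩ := S0459.result i.base i.isClosedEmbedding
      (Coh.toAb ((Scheme.Modules.pullback i).obj (ClSub.idealMod I))) 2
    exact ((UnitsLib.Hiso ((QCoh.toAbFunctor X).mapIso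
      (@asIso _ _ _ _ ((Scheme.Modules.pullbackPushforwardAdjunction i).unit.app (ClSub.idealMod I)) hu)) 2).trans
      e.symm).toEquiv.subsingleton_congr.2 h0
  have hsub : Subsingleton (Coh.HH I.subscheme ((Scheme.Modules.pullback I.subschemeι).obj (ClSub.idealMod I)) 2) :=
    (PicH1.nonempty_HH_equiv I hI2 2).some.toEquiv.subsingleton_congr.1 hX
  obtain ⟨L, hL, ⟨e⟩⟩ := S3236.result X I (by rw [pow_two]; exact hI2) hsub
    ((Scheme.Modules.pullback (inv j.toImage)).obj L₁) (PicClLib.isInvertible_pullback _ hL₁)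
  refine ⟨L, hL, ⟨(Scheme.Modules.pullbackCongr j.toImage_imageι.symm).app L ≪≫
    ((Scheme.Modules.pullbackComp _ _).app L).symm ≪≫ (Scheme.Modules.pullback j.toImage).mapIso e ≪≫
    (Scheme.Modules.pullbackComp _ _).app L₁ ≪≫ (Scheme.Modules.pullbackCongr (IsIso.hom_inv_id _)).app L₁ ≪≫
    (Scheme.Modules.pullbackId _).app L₁⟩⟩

end Groth.Agent.H9LiftLF
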