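import Groth.Agent.Lib.CurveTensor
import Groth.Agent.Big.Cartier
import Groth.Agent.PicH1Lib.SubHH
import Groth.Agent.QCoh.TensorSections
import Groth.Agent.AmpleVan.ThickPush
import Groth.Agent.KRRReg.KMaps
import Groth.Agent.KFlatLib.Scheme.PullTensorCx
import Groth.Agent.QCoh.LocFree
import Groth.Agent.LimMod.Glue

/-! Locally free modules on a square zero thickening. -/

set_option autoImplicit false
set_option linter.style.haveILetI false
set_option backward.isDefEq.respectTransparency false
set_option backward.isDefEq.respectTransparency.types false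

universe u

open CategoryTheory CategoryTheory.Limits AlgebraicGeometry TopologicalSpace Opposite

noncomputable section

namespace Groth.Agent.H9LiftLF

variable {X Z : Scheme.{u}} (i : Z ⟶ X) [IsClosedImmersion i]

local notation "push" => (Scheme.Modules.pushforward i)
local notation "pull" => (Scheme.Modules.pullback i)
local notation "adj" => (Scheme.Modules.pullbackPushforwardAdjunction i)

/-- The ideal of the closed subscheme kills the module. -/
def Killed (G : X.Modules) : Prop :=
  ∀ (U : X.affineOpens), ∀ a ∈ i.ker.ideal U, ∀ s : Γ(G, U.1), a • s = 0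

variable {i}

theorem killed_tensor {M N : X.Modules} (hM : Coh.IsQCoh M) (hN : Coh.IsQCoh N) (h : Killed i N) :
    Killed i ((DCoh.tensorBi.obj M).obj N) := fun U a ha y => by
  obtain ⟨z, rfl⟩ := (QCoh.bijective_tmLin hM hN U.2).2 y
  rw [← map_smul]
  induction z using TensorProduct.induction_on with
  | zero => rw [smul_zero, map_zero]
  | tmul s t =>
    rw [← TensorProduct.tmul_smul, h U a ha t, TensorProduct.tmul_zero, map_zero]
  | add z w hz hw => rw [smul_add, map_add, hz, hw, add_zero]

variable (i)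

theorem killed_push {M : Z.Modules} (hM : Coh.IsQCoh M) : Killed i ((push).obj M) :=
  (QCoh.isIso_unit_closed_iff i (QCoh.isQCoh_pushforward i hM)).1 (AmpleVan.isIso_unit_push i hM)

theorem isIso_unit_of_killed {G : X.Modules} (hG : Coh.IsQCoh G) (h : Killed i G) :
    IsIso ((adj).unit.app G) :=
  (QCoh.isIso_unit_closed_iff i hG).2 h

theorem hom_eq_zero_of_pull {A B : X.Modules} (φ : A ⟶ B) (h : φ ≫ (adj).unit.app B = 0) :
    (pull).map φ = 0 := by
  apply ((adj).homEquiv _ _).injective
  rw [Adjunction.homEquiv_unit, Adjunction.homEquiv_unit, Functor.map_zero, comp_zero]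
  exact (((adj).unit.naturality φ).symm.trans h : _)

section Sub

variable (I : X.IdealSheafData)

local notation "ι" => I.subschemeι

theorem pull_idealModι : (Scheme.Modules.pullback ι).map (ClSub.idealModι I) = 0 := by
  refine hom_eq_zero_of_pull ι _ (LimMod.hom_ext_basis (P := IsAffineOpen) ?_ _ _ fun U hU s => ?_)
  · intro V x hx
    obtain ⟨_, ⟨W, hW, rfl⟩, hxW, hWV⟩ := X.isBasis_affineOpens.exists_subset_of_mem_open hx V.isOpen
    exact ⟨W, hW, hxW, hWV⟩
  refine ((QCoh.unit_app_closed ι QCoh.isQCoh_structureModule hU).2 _).2 ?_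
  have h : UnitsLib.jval I s ∈ I.subschemeι.ker.ideal ⟨U, hU⟩ := by
    rw [FComplLib.ideal_ker, RingHom.mem_ker]
    exact UnitsLib.app_jval I s
  have h2 := Submodule.smul_mem_smul (N := (⊤ : Submodule Γ(X, U) Γ(Coh.structureModule X, U))) h
    (Submodule.mem_top (x := (show Γ(Coh.structureModule X, U) from (1 : Γ(X, U)))))
  have e : UnitsLib.jval I s • (show Γ(Coh.structureModule X, U) from (1 : Γ(X, U))) =
      (ClSub.idealModι I).app U s := mul_one (UnitsLib.jval I s)
  rw [e] at h2
  exact h2

variable {I} {F : X.Modules} {W : Scheme.{u}} (j : W ⟶ X) [IsClosedImmersion j]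
  (hF : FlatMod.IsFinLocFree F)

include hF in
/-- The sequence of a locally free module along a closed subscheme whose ideal lives on a smaller one. -/
theorem exists_seq_gen (hk : Killed j (ClSub.idealMod I)) : ∃ (m : (Scheme.Modules.pushforward j).obj (CohB1.tensorMod
      ((Scheme.Modules.pullback j).obj (ClSub.idealMod I)) ((Scheme.Modules.pullback j).obj F)) ⟶ F)
    (w : m ≫ (Scheme.Modules.pullbackPushforwardAdjunction ι).unit.app F = 0),
    (ShortComplex.mk m _ w).ShortExact := by
  let P := Scheme.Modules.pullback ι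
  let η := (Scheme.Modules.pullbackPushforwardAdjunction ι).unit
  have hFq : Coh.IsQCoh F := QCoh.isQCoh_of_isFinLocFree hF
  have hIq := PPSheaf.GrCoh.isQCoh_idealMod I
  have hQq : Coh.IsQCoh (ClSub.quotMod I) := QCoh.isQCoh_pushforward ι QCoh.isQCoh_structureModule
  let T := (DCoh.tensorBi.obj F)
  let S₀ := ShortComplex.mk (T.map (ClSub.idealModι I)) (T.map (ClSub.toSubscheme I))
    (by rw [← Functor.map_comp, show ClSub.idealModι I ≫ ClSub.toSubscheme I = 0 from kernel.condition _,
      Functor.map_zero])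
  have hS₀ : S₀.ShortExact := CurveTensor.shortExact_tensor hF _ _ _ (Big.shortExact_ideal I)
  let φ : T.obj (ClSub.idealMod I) ⟶ F := T.map (ClSub.idealModι I) ≫ (KFlatLib.tensorUnitIso F).hom
  let g : F ⟶ T.obj (ClSub.quotMod I) := (KFlatLib.tensorUnitIso F).inv ≫ T.map (ClSub.toSubscheme I)
  have hw : φ ≫ g = 0 := by
    simp only [φ, g, Category.assoc, Iso.hom_inv_id_assoc]
    exact S₀.zero
  have hS : (ShortComplex.mk φ g hw).ShortExact := ShortComplex.shortExact_of_iso
    (ShortComplex.isoMk (S₁ := S₀) (S₂ := ShortComplex.mk φ g hw) (Iso.refl _) (KFlatLib.tensorUnitIso F) (Iso.refl _)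
      (Category.id_comp _) (by simp [g, S₀])) hS₀
  haveI hq : IsIso (η.app (T.obj (ClSub.quotMod I))) := isIso_unit_of_killed ι (KFlatLib.isQCoh_tensor hFq hQq)
    (killed_tensor hFq hQq (killed_push ι QCoh.isQCoh_structureModule))
  let ηj := (Scheme.Modules.pullbackPushforwardAdjunction j).unit
  let Pj := Scheme.Modules.pullback j
  haveI hu : IsIso (ηj.app (T.obj (ClSub.idealMod I))) := isIso_unit_of_killed j (KFlatLib.isQCoh_tensor hFq hIq)
    (killed_tensor hFq hIq hk)
  have hφ : P.map φ = 0 := by
    have h := ((KFlatLib.pullTensorBiIso ι).hom.app F).naturality (ClSub.idealModι I)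
    have h0 : P.map (T.map (ClSub.idealModι I)) = 0 := by
      rw [← cancel_mono (((KFlatLib.pullTensorBiIso ι).hom.app F).app (Coh.structureModule X)), zero_comp]
      refine h.trans ?_
      show _ ≫ (DCoh.tensorBi.obj (P.obj F)).map (P.map (ClSub.idealModι I)) = 0
      rw [pull_idealModι I, Functor.map_zero, comp_zero]
    simp only [φ, Functor.map_comp, h0, zero_comp]
  haveI : Epi g := hS.epi_g
  haveI : IsIso (P.map g) := by
    have hex := hS.exact.map_of_epi_of_preservesCokernel P inferInstance inferInstance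
    haveI : Mono (P.map g) := hex.mono_g hφ
    exact isIso_of_mono_of_epi _
  let e₃ : T.obj (ClSub.quotMod I) ≅ (Scheme.Modules.pushforward ι).obj (P.obj F) :=
    @asIso _ _ _ _ (η.app (T.obj (ClSub.quotMod I))) hq ≪≫ (Scheme.Modules.pushforward ι).mapIso (asIso (P.map g)).symm
  have he₃ : g ≫ e₃.hom = η.app F := by
    simp only [e₃, Iso.trans_hom, asIso_hom, Functor.mapIso_hom, Iso.symm_hom, asIso_inv]
    have := η.naturality g
    rw [Functor.id_map, Functor.comp_map] at this
    rw [← Category.assoc, this, Category.assoc, ← Functor.map_comp]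
    erw [IsIso.hom_inv_id, CategoryTheory.Functor.map_id, Category.comp_id]
  let e₁ : (Scheme.Modules.pushforward j).obj (CohB1.tensorMod
      (Pj.obj (ClSub.idealMod I)) (Pj.obj F)) ≅ T.obj (ClSub.idealMod I) :=
    (Scheme.Modules.pushforward j).mapIso (CurveTensor.commIso (Pj.obj (ClSub.idealMod I)) (Pj.obj F) ≪≫
      (((KFlatLib.pullTensorBiIso j).app F).app (ClSub.idealMod I)).symm) ≪≫
      (@asIso _ _ _ _ (ηj.app (T.obj (ClSub.idealMod I))) hu).symm
  have w : (e₁.hom ≫ φ) ≫ η.app F = 0 := by rw [← he₃, Category.assoc, reassoc_of% hw, zero_comp, comp_zero]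
  exact ⟨e₁.hom ≫ φ, w, ShortComplex.shortExact_of_iso
    (ShortComplex.isoMk (S₁ := ShortComplex.mk φ g hw) (S₂ := ShortComplex.mk (e₁.hom ≫ φ) (η.app F) w) e₁.symm (Iso.refl _) e₃ (by simp) (by simp [he₃])) hS⟩

variable (hI : I * I = ⊥)

include hI hF in
/-- The sequence of a locally free module on a square zero thickening. -/
theorem exists_seq : ∃ (m : (Scheme.Modules.pushforward ι).obj (CohB1.tensorMod
      ((Scheme.Modules.pullback ι).obj (ClSub.idealMod I)) ((Scheme.Modules.pullback ι).obj F)) ⟶ F)
    (w : m ≫ (Scheme.Modules.pullbackPushforwardAdjunction ι).unit.app F = 0),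
    (ShortComplex.mk m _ w).ShortExact :=
  exists_seq_gen ι hF
    ((QCoh.isIso_unit_closed_iff ι (PPSheaf.GrCoh.isQCoh_idealMod I)).1 (PicH1.isIso_unit_idealMod I hI))

end Sub

end Groth.Agent.H9LiftLF
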