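import Groth.Agent.H9LiftLF.Small
import Groth.Agent.AmpleVan.Tw
import Groth.Agent.AmpleVan.Uniform
import Groth.Agent.ParaFX.FlatDesc

/-! Extensions of an invertible module by itself. -/

set_option autoImplicit false
set_option linter.style.haveILetI false
set_option backward.isDefEq.respectTransparency false
set_option backward.isDefEq.respectTransparency.types false

universe u

open CategoryTheory CategoryTheory.Limits AlgebraicGeometry TopologicalSpace Opposite Abelian

noncomputable section

namespace Groth.Agent.H9LiftLF

theorem nonempty_hom_self {X : Scheme.{u}} {L : X.Modules} (hL : PicF.IsInvertible L) :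
    Nonempty ((SheafHomX.hom L).obj L ≅ Coh.structureModule X) := by
  haveI : (SheafHomX.ten L).IsEquivalence := AmpleVan.isEquivalence_tw hL
  let adj := SheafHomX.adj L
  exact ⟨(SheafHomX.hom L).mapIso (CurveTensor.structureTensorIso L).symm ≪≫
    (asIso (adj.unit.app (Coh.structureModule X))).symm⟩

theorem subsingleton_ext_self {k : Type u} [CommRing k] {X : Scheme.{u}} (x : X ⟶ Spec (CommRingCat.of k))
    [HasExt.{u} X.Modules] {L : X.Modules} (hL : PicF.IsInvertible L) {n : ℕ}
    (h : Subsingleton (Coh.HH X (Coh.structureModule X) n)) : Subsingleton (Abelian.Ext.{u} L L n) := by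
  letI : X.Over (Spec (CommRingCat.of k)) := ⟨x⟩
  obtain ⟨e⟩ := PnDual.nonempty_ext_linearEquiv_HH (A := k) (ParaFX.FlatDesc.isFinLocFree_of_invertible hL) L n
  obtain ⟨θ⟩ := nonempty_hom_self hL
  exact (e.trans (S2926.hhIso k θ n)).toEquiv.subsingleton

end Groth.Agent.H9LiftLF
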