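import Groth.Agent.H9LiftLF.Basic
import Groth.Agent.CohBasic.EulerBC
import Mathlib.Algebra.Homology.DerivedCategory.Ext.ExactSequences

/-! Lifting morphisms of locally free modules along a thickening. -/

set_option autoImplicit false
set_option linter.style.haveILetI false
set_option backward.isDefEq.respectTransparency false
set_option backward.isDefEq.respectTransparency.types false

universe u

open CategoryTheory CategoryTheory.Limits AlgebraicGeometry TopologicalSpace Opposite Abelian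

noncomputable section

namespace Groth.Agent.H9LiftLF

variable {X Z : Scheme.{u}} (i : Z ⟶ X) [IsClosedImmersion i]

local notation "push" => (Scheme.Modules.pushforward i)
local notation "pull" => (Scheme.Modules.pullback i)
local notation "adj" => (Scheme.Modules.pullbackPushforwardAdjunction i)

theorem section_of_extClass_eq_zero {C : Type*} [Category C] [Abelian C] [HasExt.{u} C] {S : ShortComplex C}
    (hS : S.ShortExact) (h : Subsingleton (Abelian.Ext.{u} S.X₃ S.X₁ 1)) : ∃ s : S.X₃ ⟶ S.X₂, s ≫ S.g = 𝟙 _ := by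
  obtain ⟨z, hz⟩ := Ext.covariant_sequence_exact₃ S.X₃ hS (Ext.mk₀ (𝟙 S.X₃)) (zero_add 1)
    (Subsingleton.elim _ _)
  obtain ⟨s, rfl⟩ := (Ext.mk₀_bijective _ _).2 z
  exact ⟨s, (Ext.mk₀_bijective _ _).1 ((Ext.mk₀_comp_mk₀ _ _).symm.trans hz)⟩

theorem subsingleton_ext_of_iso {C : Type*} [Category C] [Abelian C] [HasExt.{u} C] {A A' B B' : C} {n : ℕ}
    (a : A' ≅ A) (b : B ≅ B') (h : Subsingleton (Abelian.Ext.{u} A B n)) : Subsingleton (Abelian.Ext.{u} A' B' n) := by
  have key : ∀ z : Abelian.Ext.{u} A' B' n, z = 0 := fun z => by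
    have e : (Ext.mk₀ a.hom).comp (((Ext.mk₀ a.inv).comp (z.comp (Ext.mk₀ b.inv) (add_zero n)) (zero_add n)))
        (zero_add n) = (z.comp (Ext.mk₀ b.inv) (add_zero n)) := by
      rw [← Ext.comp_assoc_of_second_deg_zero, Ext.mk₀_comp_mk₀, a.hom_inv_id, Ext.mk₀_id_comp]
    rw [Subsingleton.elim ((Ext.mk₀ a.inv).comp _ (zero_add n)) 0, Ext.comp_zero] at e
    have e' := congrArg (fun w => w.comp (Ext.mk₀ b.hom) (add_zero n)) e
    simp only [Ext.zero_comp] at e'
    rw [Ext.comp_assoc_of_third_deg_zero, Ext.mk₀_comp_mk₀, b.inv_hom_id, Ext.comp_mk₀_id] at e'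
    exact e'.symm
  exact ⟨fun x y => (key x).trans (key y).symm⟩

variable {i} [HasExt.{u} Z.Modules] {E : X.Modules} {G : Z.Modules}

/-- Lifting along an epimorphism with kernel coming from the closed subscheme. -/
theorem exists_lift (hE : FlatMod.IsFinLocFree E) (hG : Coh.IsQCoh G)
    (h1 : Subsingleton (Abelian.Ext.{u} ((pull).obj E) G 1)) {S : ShortComplex X.Modules} (hS : S.ShortExact)
    (e : (push).obj G ≅ S.X₁) (u₀ : E ⟶ S.X₃) : ∃ u : E ⟶ S.X₂, u ≫ S.g = u₀ := by
  haveI := hS.epi_g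
  haveI := hS.mono_f
  let f' : S.X₁ ⟶ pullback S.g u₀ := pullback.lift S.f 0 (by rw [S.zero, zero_comp])
  have hf1 : f' ≫ pullback.fst S.g u₀ = S.f := pullback.lift_fst _ _ _
  have hf2 : f' ≫ pullback.snd S.g u₀ = 0 := pullback.lift_snd _ _ _
  let S' := ShortComplex.mk (e.hom ≫ f') (pullback.snd S.g u₀) (by rw [Category.assoc, hf2, comp_zero])
  haveI : Mono f' := mono_of_mono_fac hf1
  haveI : Mono S'.f := inferInstanceAs (Mono (e.hom ≫ f'))
  haveI : Epi S'.g := inferInstanceAs (Epi (pullback.snd S.g u₀))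
  have hex : S'.Exact := S'.exact_of_f_is_kernel (KernelFork.IsLimit.ofι' _ _ fun {T} k hk =>
    ⟨hS.exact.lift (k ≫ pullback.fst S.g u₀)
      (by rw [Category.assoc, pullback.condition, ← Category.assoc, show k ≫ pullback.snd S.g u₀ = 0 from hk,
        zero_comp]) ≫ e.inv, by
      show (_ ≫ e.inv) ≫ e.hom ≫ f' = k
      rw [Category.assoc, Iso.inv_hom_id_assoc]
      refine pullback.hom_ext ?_ ?_
      · rw [Category.assoc, hf1, hS.exact.lift_f]
      · rw [Category.assoc, hf2, comp_zero]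
        exact hk.symm⟩)
  have hS' : S'.ShortExact := ShortComplex.ShortExact.mk' hex inferInstance inferInstance
  have hP := KRRReg.shortExact_pullback_vb i hS' hE
  haveI : IsIso ((adj).counit.app G) := AmpleVan.isIso_counit i hG
  obtain ⟨s, hs⟩ := section_of_extClass_eq_zero hP
    (subsingleton_ext_of_iso (Iso.refl _) (asIso ((adj).counit.app G)).symm h1)
  haveI := hP.mono_f
  let σ := ShortComplex.Splitting.ofExactOfSection _ hP.exact s hs inferInstance
  let r : pullback S.g u₀ ⟶ (push).obj G := (adj).homEquiv _ _ (σ.r ≫ (adj).counit.app G)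
  have hr : S'.f ≫ r = 𝟙 _ := by
    rw [← Adjunction.homEquiv_naturality_left]
    apply ((adj).homEquiv _ _).symm.injective
    rw [Equiv.symm_apply_apply, Adjunction.homEquiv_counit, CategoryTheory.Functor.map_id, Category.id_comp,
      ← Category.assoc]
    exact (congrArg (· ≫ (adj).counit.app G) σ.f_r).trans (Category.id_comp _)
  let τ := ShortComplex.Splitting.ofExactOfRetraction S' hex r hr inferInstance
  refine ⟨τ.s ≫ pullback.fst S.g u₀, ?_⟩
  rw [Category.assoc, pullback.condition, ← Category.assoc]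
  exact (congrArg (· ≫ u₀) τ.s_g).trans (Category.id_comp _)

omit [HasExt.{u} Z.Modules] in
/-- Maps killed on the closed subscheme into a direct image vanish. -/
theorem eq_zero_of_pull {A : X.Modules} (hG : Coh.IsQCoh G) (φ : A ⟶ (push).obj G) (h : (pull).map φ = 0) :
    φ = 0 := by
  haveI := AmpleVan.isIso_unit_push i hG
  have hn := (adj).unit.naturality φ
  rw [Functor.id_map, Functor.comp_map, h, Functor.map_zero, comp_zero] at hn
  rwa [← cancel_mono ((adj).unit.app ((push).obj G)), zero_comp]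

omit [HasExt.{u} Z.Modules] in
theorem map_eq_of_comp_unit {A B : X.Modules} (u : A ⟶ B) (u₀ : (pull).obj A ⟶ (pull).obj B)
    (h : u ≫ (adj).unit.app B = (adj).homEquiv _ _ u₀) : (pull).map u = u₀ := by
  apply ((adj).homEquiv _ _).injective
  rw [← h, Adjunction.homEquiv_unit]
  exact ((adj).unit.naturality u).symm

section Sub

variable {Y : Scheme.{u}} {I : Y.IdealSheafData} {E F : Y.Modules}

local notation "P" => (Scheme.Modules.pullback (Scheme.IdealSheafData.subschemeι I))
variable (I) in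
/-- The module governing liftings. -/
abbrev obsMod (M : I.subscheme.Modules) : I.subscheme.Modules :=
  CohB1.tensorMod ((P).obj (ClSub.idealMod I)) M

theorem isQCoh_obsMod (hF : FlatMod.IsFinLocFree F) : Coh.IsQCoh (obsMod I ((P).obj F)) :=
  CohBasic.isQCoh_tensorMod (QCoh.isQCoh_pullback _ (PPSheaf.GrCoh.isQCoh_idealMod I))
    (QCoh.isQCoh_pullback _ (QCoh.isQCoh_of_isFinLocFree hF))

variable (hI : I * I = ⊥)

include hI in
theorem exists_lift_hom [HasExt.{u} I.subscheme.Modules] (hE : FlatMod.IsFinLocFree E) (hF : FlatMod.IsFinLocFree F)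
    (h1 : Subsingleton (Abelian.Ext.{u} ((P).obj E) (obsMod I ((P).obj F)) 1)) (u₀ : (P).obj E ⟶ (P).obj F) :
    ∃ u : E ⟶ F, (P).map u = u₀ := by
  obtain ⟨m, w, hS⟩ := exists_seq hF hI
  obtain ⟨u, hu⟩ := exists_lift hE (isQCoh_obsMod hF) h1 hS (Iso.refl _)
    ((Scheme.Modules.pullbackPushforwardAdjunction I.subschemeι).homEquiv _ _ u₀)
  exact ⟨u, map_eq_of_comp_unit u u₀ hu⟩

include hI in
theorem exists_factor (hF : FlatMod.IsFinLocFree F) (d : E ⟶ F) (hd : (P).map d = 0) :
    ∃ (m : (Scheme.Modules.pushforward I.subschemeι).obj (obsMod I ((P).obj F)) ⟶ F)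
      (d' : E ⟶ (Scheme.Modules.pushforward I.subschemeι).obj (obsMod I ((P).obj F))),
      (P).map m = 0 ∧ d' ≫ m = d := by
  obtain ⟨m, w, hS⟩ := exists_seq hF hI
  have hη := (Scheme.Modules.pullbackPushforwardAdjunction I.subschemeι).unit.naturality d
  rw [Functor.id_map, Functor.comp_map, hd, Functor.map_zero, comp_zero] at hη
  haveI := hS.mono_f
  exact ⟨m, hS.exact.lift d hη, hom_eq_zero_of_pull _ m w, hS.exact.lift_f d hη⟩

include hI in
theorem eq_zero_of_pull_eq_zero (hF : FlatMod.IsFinLocFree F)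
    (h0 : Subsingleton ((P).obj E ⟶ obsMod I ((P).obj F))) (d : E ⟶ F) (hd : (P).map d = 0) : d = 0 := by
  obtain ⟨m, d', -, rfl⟩ := exists_factor hI hF d hd
  have : d' = 0 := ((Scheme.Modules.pullbackPushforwardAdjunction I.subschemeι).homEquiv _ _).symm.injective
    (Subsingleton.elim _ _)
  rw [this, zero_comp]

include hI in
theorem isIso_of_pull_eq_id (hE : FlatMod.IsFinLocFree E) (a : E ⟶ E) (ha : (P).map a = 𝟙 _) : IsIso a := by
  obtain ⟨d, rfl⟩ : ∃ d, a = 𝟙 E + d := ⟨a - 𝟙 E, (add_sub_cancel _ _).symm⟩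
  have hd : (P).map d = 0 := by
    rwa [Functor.map_add, CategoryTheory.Functor.map_id, add_eq_left] at ha
  obtain ⟨m, d', hm, hd'⟩ := exists_factor hI hE d hd
  have h0 : m ≫ d' = 0 := eq_zero_of_pull (isQCoh_obsMod hE) _ (by rw [Functor.map_comp, hm, zero_comp])
  have h2 : d ≫ d = 0 := by rw [← hd', Category.assoc, reassoc_of% h0, zero_comp, comp_zero]
  refine ⟨⟨𝟙 E - d, ?_, ?_⟩⟩
  · simp [Preadditive.add_comp, Preadditive.comp_sub, h2]
  · simp [Preadditive.comp_add, Preadditive.sub_comp, h2]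

include hI in
theorem exists_iso_lift [HasExt.{u} I.subscheme.Modules] (hE : FlatMod.IsFinLocFree E) (hF : FlatMod.IsFinLocFree F)
    (e : (P).obj E ≅ (P).obj F) (h1 : Subsingleton (Abelian.Ext.{u} ((P).obj E) (obsMod I ((P).obj E)) 1)) :
    ∃ u : E ≅ F, (P).map u.hom = e.hom := by
  let b : obsMod I ((P).obj E) ≅ obsMod I ((P).obj F) :=
    (DCoh.tensorBi.obj ((P).obj (ClSub.idealMod I))).mapIso e
  obtain ⟨u, hu⟩ := exists_lift_hom hI hE hF (subsingleton_ext_of_iso (Iso.refl _) b h1) e.hom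
  obtain ⟨v, hv⟩ := exists_lift_hom hI hF hE (subsingleton_ext_of_iso e.symm (Iso.refl _) h1) e.inv
  haveI := isIso_of_pull_eq_id hI hE (u ≫ v) (by rw [Functor.map_comp, hu, hv, e.hom_inv_id])
  haveI := isIso_of_pull_eq_id hI hF (v ≫ u) (by rw [Functor.map_comp, hu, hv, e.inv_hom_id])
  haveI : Mono u := mono_of_mono u v
  haveI : Epi u := epi_of_epi v u
  haveI : IsIso u := isIso_of_mono_of_epi u
  exact ⟨asIso u, hu⟩

end Sub

end Groth.Agent.H9LiftLF
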