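import Groth.Agent.H9LiftLF.SmallExt
import Groth.Agent.Lib.PnDualSheafHom
import Groth.Agent.AmpleVan.LiftFibre
import Groth.Agent.PicClLib.Basic
import Groth.Agent.S2926

/-! Uniqueness of lifts of locally free modules along small extensions. -/

set_option autoImplicit false
set_option linter.style.haveILetI false
set_option backward.isDefEq.respectTransparency false
set_option backward.isDefEq.respectTransparency.types false

universe u

open CategoryTheory CategoryTheory.Limits AlgebraicGeometry TopologicalSpace Opposite Abelian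

noncomputable section

namespace Groth.Agent.H9LiftLF

open Groth.Agent.AmpleVan (scal)

theorem exists_minimal_gens {A : Type u} [CommRing A] [IsLocalRing A] {J : Ideal A} (hJ : J.FG) :
    ∃ (R₀ : Type u) (_ : Fintype R₀) (c : R₀ → A), Ideal.span (Set.range c) = J ∧
      ∀ a : R₀ → A, ∑ j, a j * c j = 0 → ∀ j, a j ∈ IsLocalRing.maximalIdeal A := by
  classical
  have hex : ∃ n : ℕ, ∃ s : Finset A, s.card = n ∧ Ideal.span (s : Set A) = J := by
    obtain ⟨s, hs⟩ := hJ
    exact ⟨_, s, rfl, hs⟩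
  obtain ⟨s, hn, hs⟩ := Nat.find_spec hex
  refine ⟨s, inferInstance, fun j => j.1, ?_, fun a ha j => ?_⟩
  · rw [show Set.range (fun j : s => (j : A)) = (s : Set A) from Subtype.range_coe]
    exact hs
  · by_contra hj
    have hu : IsUnit (a j) := not_not.1 fun h => hj ((IsLocalRing.mem_maximalIdeal _).2 h)
    have hmem : (j : A) ∈ Ideal.span ((s.erase j.1 : Finset A) : Set A) := by
      obtain ⟨v, hv⟩ := hu.exists_left_inv
      rw [Finset.sum_eq_add_sum_sdiff_singleton_of_mem (Finset.mem_univ j), add_eq_zero_iff_eq_neg] at ha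
      have h2 : a j * j.1 ∈ Ideal.span ((s.erase j.1 : Finset A) : Set A) := by
        rw [show a j * j.1 = _ from ha]
        refine neg_mem (Ideal.sum_mem _ fun l hl => Ideal.mul_mem_left _ _ (Ideal.subset_span ?_))
        rw [Finset.mem_sdiff, Finset.mem_singleton] at hl
        exact Finset.mem_erase.2 ⟨fun h => hl.2 (Subtype.ext h), l.2⟩
      have h3 := Ideal.mul_mem_left _ v h2
      rwa [← mul_assoc, hv, one_mul] at h3
    refine Nat.find_min hex (m := (s.erase j.1).card) ?_ ⟨_, rfl, ?_⟩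
    · rw [← hn]
      exact Finset.card_erase_lt_of_mem j.2
    · rw [← hs]
      refine le_antisymm (Ideal.span_mono (Finset.coe_subset.2 (Finset.erase_subset _ _))) (Ideal.span_le.2 fun z hz => ?_)
      by_cases h : z = j.1
      · exact h ▸ hmem
      · exact Ideal.subset_span (Finset.mem_erase.2 ⟨h, hz⟩)

theorem subsingleton_ext_biproduct {C : Type*} [Category C] [Abelian C] [HasExt.{u} C] {R₀ : Type u} [Fintype R₀]
    {M : C} {G : R₀ → C} [HasBiproduct G] {n : ℕ} (h : ∀ j, Subsingleton (Abelian.Ext.{u} M (G j) n)) :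
    Subsingleton (Abelian.Ext.{u} M (⨁ G) n) := by
  have key : ∀ z : Abelian.Ext.{u} M (⨁ G) n, z = 0 := fun z => by
    have e : (∑ j, biproduct.π G j ≫ biproduct.ι G j) = 𝟙 (⨁ G) := by
      refine biproduct.hom_ext' _ _ fun j => ?_
      rw [Preadditive.comp_sum, Finset.sum_eq_single j (fun b _ hb => by
        rw [← Category.assoc, biproduct.ι_π_ne _ hb.symm, zero_comp])
        (fun h => absurd (Finset.mem_univ j) h), biproduct.ι_π_self_assoc]
      exact (Category.comp_id _).symm
    rw [← Ext.comp_mk₀_id z, ← e, Ext.mk₀_sum, Ext.comp_sum]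
    refine Finset.sum_eq_zero fun j _ => ?_
    rw [← Ext.mk₀_comp_mk₀, ← Ext.comp_assoc_of_third_deg_zero,
      (h j).elim (z.comp (Ext.mk₀ (biproduct.π G j)) (add_zero n)) 0, Ext.zero_comp]
  exact ⟨fun x y => (key x).trans (key y).symm⟩

variable {A : Type u} [CommRing A] [IsLocalRing A] {X X₁ X₀ : Scheme.{u}} [X.Over (Spec (CommRingCat.of A))]
  [Flat (X ↘ Spec (CommRingCat.of A))] {C K : Type u} [CommRing C] [CommRing K]
  {j : X₁ ⟶ X} [IsClosedImmersion j] {i : X₀ ⟶ X} [IsClosedImmersion i]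
  {q : X₁ ⟶ Spec (CommRingCat.of C)} {q₀ : X₀ ⟶ Spec (CommRingCat.of K)} (φ : A →+* C) (ψ : A →+* K)

/-- Locally free modules are rigid along small extensions without first cohomology. -/
theorem exists_iso_small (hφ : Function.Surjective φ) (hψ : Function.Surjective ψ)
    (hmax : RingHom.ker ψ = IsLocalRing.maximalIdeal A) (hle : RingHom.ker φ ≤ RingHom.ker ψ)
    (hfg : (RingHom.ker φ).FG) (hann : RingHom.ker ψ * RingHom.ker φ = ⊥)
    (sq : IsPullback j q (X ↘ Spec (CommRingCat.of A)) (Spec.map (CommRingCat.ofHom φ)))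
    (sq₀ : IsPullback i q₀ (X ↘ Spec (CommRingCat.of A)) (Spec.map (CommRingCat.ofHom ψ)))
    [HasExt.{u} X₀.Modules] {F F' : X.Modules} (hF : FlatMod.IsFinLocFree F) (hF' : FlatMod.IsFinLocFree F')
    (e : (Scheme.Modules.pullback j).obj F ≅ (Scheme.Modules.pullback j).obj F')
    (h1 : Subsingleton (Abelian.Ext.{u} ((Scheme.Modules.pullback i).obj F) ((Scheme.Modules.pullback i).obj F') 1))
    (h1' : Subsingleton (Abelian.Ext.{u} ((Scheme.Modules.pullback i).obj F') ((Scheme.Modules.pullback i).obj F) 1)) :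
    Nonempty (F ≅ F') := by
  obtain ⟨R₀, _, c, hc, hind⟩ := exists_minimal_gens hfg
  let I := j.ker
  have hI : ∀ U : X.affineOpens, I.ideal U = Ideal.span (Set.range fun l => scal A U.1 (c l)) := fun U => by
    rw [ker_ideal_of_surjective φ hφ sq U, ← hc, Ideal.map_span, ← Set.range_comp]
    rfl
  have hi : ∀ U : X.affineOpens, i.ker.ideal U = (RingHom.ker ψ).map (scal A U.1) := fun U =>
    ker_ideal_of_surjective ψ hψ sq₀ U
  obtain ⟨hk, ⟨θ⟩⟩ := exists_ideal_free (i := i) (I := I) c hI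
    (fun U a ha l => by
      have h : a * scal A U.1 (c l) ∈ (RingHom.ker ψ * RingHom.ker φ).map (scal A U.1) := by
        rw [Ideal.map_mul]
        refine Ideal.mul_mem_mul (hi U ▸ ha) (Ideal.mem_map_of_mem _ ?_)
        rw [← hc]
        exact Ideal.subset_span ⟨l, rfl⟩
      rwa [hann, Ideal.map_bot, Ideal.mem_bot] at h)
    (fun U b hb l => by
      rw [hi U]
      exact mem_of_sum_eq_zero c _ (fun a ha => hmax ▸ hind a ha) U b hb l)
  have hI2 : I * I = ⊥ := by
    refine Scheme.IdealSheafData.ext (funext fun U => ?_)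
    rw [Scheme.IdealSheafData.ideal_mul, Pi.mul_apply, Scheme.IdealSheafData.ideal_bot, Pi.bot_apply,
      ker_ideal_of_surjective φ hφ sq U, ← Ideal.map_mul, ← le_bot_iff]
    calc _ ≤ (RingHom.ker ψ * RingHom.ker φ).map (scal A U.1) := Ideal.map_mono (Ideal.mul_mono_left hle)
      _ = ⊥ := by rw [hann, Ideal.map_bot]
  let ι := I.subschemeι
  have hι : inv j.toImage ≫ j = ι := by rw [IsIso.inv_comp_eq]; exact j.toImage_imageι.symm
  let t : ∀ M : X.Modules, (Scheme.Modules.pullback ι).obj M ≅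
      (Scheme.Modules.pullback (inv j.toImage)).obj ((Scheme.Modules.pullback j).obj M) := fun M =>
    (Scheme.Modules.pullbackCongr hι.symm).app M ≪≫ ((Scheme.Modules.pullbackComp _ _).app M).symm
  let e₀ := t F ≪≫ (Scheme.Modules.pullback (inv j.toImage)).mapIso e ≪≫ (t F').symm
  have main : ∀ {E E' : X.Modules}, FlatMod.IsFinLocFree E → FlatMod.IsFinLocFree E' →
      Subsingleton (Abelian.Ext.{u} ((Scheme.Modules.pullback i).obj E) ((Scheme.Modules.pullback i).obj E') 1) →
      ∀ u₀ : (Scheme.Modules.pullback ι).obj E ⟶ (Scheme.Modules.pullback ι).obj E',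
      ∃ u : E ⟶ E', (Scheme.Modules.pullback ι).map u = u₀ := fun {E E'} hE hE' h u₀ => by
    obtain ⟨m, w, hS⟩ := exists_seq_gen (I := I) i hE' hk
    let Pi := Scheme.Modules.pullback i
    let G := CohB1.tensorMod (Pi.obj (ClSub.idealMod I)) (Pi.obj E')
    have hG : Coh.IsQCoh G := CohBasic.isQCoh_tensorMod (QCoh.isQCoh_pullback _ (PPSheaf.GrCoh.isQCoh_idealMod I))
      (QCoh.isQCoh_pullback _ (QCoh.isQCoh_of_isFinLocFree hE'))
    let T := (DCoh.tensorBi (X := X₀)).obj (Pi.obj E')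
    haveI := preservesBiproductsOfShape_of_preservesCoproductsOfShape (J := R₀) T
    obtain ⟨ω⟩ := PicClLib.nonempty_pullback_structureModule i
    let g : G ≅ ⨁ fun _ : R₀ => Pi.obj E' :=
      CurveTensor.commIso (Pi.obj (ClSub.idealMod I)) (Pi.obj E') ≪≫ T.mapIso θ ≪≫ T.mapBiproduct _ ≪≫
        biproduct.mapIso fun _ => T.mapIso ω ≪≫ KFlatLib.tensorUnitIso _
    have hG1 : Subsingleton (Abelian.Ext.{u} (Pi.obj E) G 1) :=
      subsingleton_ext_of_iso (Iso.refl _) g.symm (subsingleton_ext_biproduct fun _ => h)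
    obtain ⟨u, hu⟩ := exists_lift (i := i) hE hG hG1 hS (Iso.refl _)
      ((Scheme.Modules.pullbackPushforwardAdjunction ι).homEquiv _ _ u₀)
    exact ⟨u, map_eq_of_comp_unit u u₀ hu⟩
  obtain ⟨u, hu⟩ := main hF hF' h1 e₀.hom
  obtain ⟨v, hv⟩ := main hF' hF h1' e₀.inv
  haveI := isIso_of_pull_eq_id hI2 hF (u ≫ v) (by rw [Functor.map_comp, hu, hv, e₀.hom_inv_id])
  haveI := isIso_of_pull_eq_id hI2 hF' (v ≫ u) (by rw [Functor.map_comp, hu, hv, e₀.inv_hom_id])
  haveI : Mono u := mono_of_mono u v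
  haveI : Epi u := epi_of_epi v u
  haveI : IsIso u := isIso_of_mono_of_epi u
  exact ⟨asIso u⟩

/-- Vanishing of the first cohomology of endomorphisms gives vanishing of `Ext`. -/
theorem subsingleton_ext_of_HH {k : Type u} [Field k] {X₀ : Scheme.{u}} (x : X₀ ⟶ Spec (CommRingCat.of k))
    [HasExt.{u} X₀.Modules] {F N : X₀.Modules} (hF : FlatMod.IsFinLocFree F)
    [DCoh.HasSheafHom F] (h : Subsingleton (Coh.HH X₀ ((DCoh.sheafHom F).obj N) 1)) :
    Subsingleton (Abelian.Ext.{u} F N 1) := by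
  letI : X₀.Over (Spec (CommRingCat.of k)) := ⟨x⟩
  obtain ⟨e⟩ := PnDual.nonempty_ext_linearEquiv_HH (A := k) hF N 1
  exact (e.trans (S2926.hhIso k ((AmpleVan.sheafHomIso F).app N).symm 1)).toEquiv.subsingleton

end Groth.Agent.H9LiftLF
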