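import Groth.Agent.H9LiftLF.Lift
import Groth.Agent.QCoh.Support
import Mathlib.RingTheory.Flat.EquationalCriterion
import Groth.Agent.QCoh.DevissageSum
import Groth.Agent.QCoh.DevissageIdeal

/-! Ideals of thickenings along small extensions of flat schemes. -/

set_option autoImplicit false
set_option linter.style.haveILetI false
set_option backward.isDefEq.respectTransparency false
set_option backward.isDefEq.respectTransparency.types false

universe u

open CategoryTheory CategoryTheory.Limits AlgebraicGeometry TopologicalSpace Opposite Abelian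

noncomputable section

namespace Groth.Agent.H9LiftLF

open Groth.Agent.AmpleVan (scal)

variable {A : Type u} [CommRing A] {X Z : Scheme.{u}} [X.Over (Spec (CommRingCat.of A))]

/-- The ideal of the preimage of the closed subscheme given by a surjection. -/
theorem ker_ideal_of_surjective {C : Type u} [CommRing C] (φ : A →+* C) (hφ : Function.Surjective φ)
    {i : Z ⟶ X} [IsClosedImmersion i] {q : Z ⟶ Spec (CommRingCat.of C)}
    (sq : IsPullback i q (X ↘ Spec (CommRingCat.of A)) (Spec.map (CommRingCat.ofHom φ))) (U : X.affineOpens) :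
    i.ker.ideal U = (RingHom.ker φ).map (scal A U.1) := by
  let e : (A ⧸ RingHom.ker φ) ≃+* C := RingHom.quotientKerEquivOfSurjective hφ
  let E : Spec (CommRingCat.of C) ≅ Spec (CommRingCat.of (A ⧸ RingHom.ker φ)) :=
    Scheme.Spec.mapIso e.toCommRingCatIso.op
  refine AmpleVan.ker_ideal_of_isPullback (q := q ≫ E.hom) (sq.of_iso (Iso.refl _) (Iso.refl _) E (Iso.refl _)
    (by simp) (by simp) (by simp) ?_) U
  rw [Iso.refl_hom, Category.comp_id]
  show Spec.map _ = Spec.map _ ≫ Spec.map _
  rw [← Spec.map_comp]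
  rfl

section Rel

variable [Flat (X ↘ Spec (CommRingCat.of A))]

theorem flat_scal (U : X.affineOpens) : (scal A U.1).Flat := by
  have h : ((X ↘ Spec (CommRingCat.of A)).appLE ⊤ U.1 le_top).hom.Flat :=
    HasRingHomProperty.appLE (P := @Flat) _ inferInstance ⟨⊤, isAffineOpen_top _⟩ U le_top
  have e : scal A U.1 = ((X ↘ Spec (CommRingCat.of A)).appLE ⊤ U.1 le_top).hom.comp
      (Scheme.ΓSpecIso (CommRingCat.of A)).inv.hom := rfl
  rw [e]
  exact RingHom.Flat.comp (RingHom.Flat.of_bijective
    (ConcreteCategory.bijective_of_isIso (Scheme.ΓSpecIso (CommRingCat.of A)).inv)) h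

/-- Linear relations among constants come from the base. -/
theorem mem_of_sum_eq_zero {R₀ : Type u} [Fintype R₀] (e : R₀ → A) (J : Ideal A)
    (hind : ∀ a : R₀ → A, ∑ j, a j * e j = 0 → ∀ j, a j ∈ J) (U : X.affineOpens) (b : R₀ → Γ(X, U.1))
    (hb : ∑ j, b j * scal A U.1 (e j) = 0) (j : R₀) : b j ∈ J.map (scal A U.1) := by
  letI := (scal A U.1).toAlgebra
  haveI : Module.Flat A Γ(X, U.1) := flat_scal U
  obtain ⟨l, a, y, hy, ha⟩ := Module.Flat.isTrivialRelation_of_sum_smul_eq_zero (f := e) (x := b) (by
    refine Eq.trans (Finset.sum_congr rfl fun i _ => ?_) hb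
    rw [Algebra.smul_def, mul_comm]
    rfl)
  rw [hy j]
  refine Ideal.sum_mem _ fun l' _ => ?_
  rw [Algebra.smul_def]
  refine Ideal.mul_mem_right _ _ (Ideal.mem_map_of_mem _ (hind (fun i => a i l') ?_ j))
  exact (Finset.sum_congr rfl fun i _ => mul_comm _ _).trans (ha l')

end Rel

section Free

variable {i : Z ⟶ X} [IsClosedImmersion i] {I : X.IdealSheafData} {R₀ : Type u} [Fintype R₀]

omit [X.Over (Spec (CommRingCat.of A))] in
theorem sum_app {M N : X.Modules} (f : R₀ → (M ⟶ N)) (U : X.Opens) (s : Γ(M, U)) :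
    (∑ j, f j).app U s = ∑ j, (f j).app U s :=
  QCoh.app_sum _ f U s

/-- The ideal of a small thickening is free on the smallest closed subscheme. -/
theorem exists_ideal_free (c : R₀ → A)
    (hspan : ∀ U : X.affineOpens, I.ideal U = Ideal.span (Set.range fun j => scal A U.1 (c j)))
    (hann : ∀ (U : X.affineOpens), ∀ a ∈ i.ker.ideal U, ∀ j, a * scal A U.1 (c j) = 0)
    (hrel : ∀ (U : X.affineOpens) (b : R₀ → Γ(X, U.1)), ∑ j, b j * scal A U.1 (c j) = 0 →
      ∀ j, b j ∈ i.ker.ideal U) :
    Killed i (ClSub.idealMod I) ∧ Nonempty ((Scheme.Modules.pullback i).obj (ClSub.idealMod I) ≅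
      ⨁ fun _ : R₀ => (Scheme.Modules.pullback i).obj (Coh.structureModule X)) := by
  let O := Coh.structureModule X
  let O' := ⨁ fun _ : R₀ => O
  have hB : ∀ U : X.affineOpens, ∀ s : Γ(ClSub.idealMod I, U.1), UnitsLib.jval I s ∈ I.ideal U := fun U s => by
    have e : I.ideal U = RingHom.ker (I.subschemeι.app U.1).hom := by
      rw [← FComplLib.ideal_ker, I.ker_subschemeι]
    rw [e]
    exact UnitsLib.app_jval I s
  have hk : Killed i (ClSub.idealMod I) := fun U a ha s => by
    refine UnitsLib.jval_injective I (Eq.trans ?_ (map_zero _).symm)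
    refine (Scheme.Modules.Hom.app_smul (ClSub.idealModι I) (U := U.1) a s).trans ?_
    show a * UnitsLib.jval I s = 0
    have hm := hB U s
    rw [hspan U] at hm
    generalize UnitsLib.jval I s = t at hm ⊢
    induction hm using Submodule.span_induction with
    | mem z hz => obtain ⟨j, rfl⟩ := hz; exact hann U a ha j
    | zero => exact mul_zero a
    | add z w _ _ hz hw => rw [mul_add, hz, hw, add_zero]
    | smul z w _ hw => rw [smul_eq_mul, mul_left_comm, hw, mul_zero]
  refine ⟨hk, ?_⟩
  have hcond : ∀ j, Formal.smulMod A O (c j) ≫ ClSub.toSubscheme I = 0 := fun j => by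
    refine LimMod.hom_ext_basis (P := IsAffineOpen) ?_ _ _ fun U hU s => ?_
    · intro V x hx
      obtain ⟨_, ⟨W, hW, rfl⟩, hxW, hWV⟩ := X.isBasis_affineOpens.exists_subset_of_mem_open hx V.isOpen
      exact ⟨W, hW, hxW, hWV⟩
    · show I.subschemeι.app U (scal A U (c j) * (show Γ(X, U) from s)) = 0
      have h : scal A U (c j) ∈ I.subschemeι.ker.ideal ⟨U, hU⟩ := by
        rw [I.ker_subschemeι, hspan ⟨U, hU⟩]
        exact Ideal.subset_span ⟨j, rfl⟩
      rw [FComplLib.ideal_ker, RingHom.mem_ker] at h
      exact (map_mul _ _ _).trans ((congrArg (· * _) h).trans (zero_mul _))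
  let α : O' ⟶ ClSub.idealMod I := biproduct.desc fun j => kernel.lift (ClSub.toSubscheme I) _ (hcond j)
  have hval : ∀ (U : X.Opens) (z : Γ(O', U)), UnitsLib.jval I (α.app U z) =
      ∑ j, (show Γ(X, U) from (biproduct.π (fun _ : R₀ => O) j).app U z) * scal A U (c j) := fun U z => by
    have h1 : α ≫ ClSub.idealModι I = ∑ j, biproduct.π (fun _ : R₀ => O) j ≫ Formal.smulMod A O (c j) := by
      refine biproduct.hom_ext' _ _ fun j => ?_
      rw [biproduct.ι_desc_assoc]
      refine (kernel.lift_ι _ _ _).trans ?_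
      rw [Preadditive.comp_sum, Finset.sum_eq_single j (fun b _ hb => by
        rw [← Category.assoc, biproduct.ι_π_ne _ hb.symm, zero_comp])
        (fun h => absurd (Finset.mem_univ j) h), biproduct.ι_π_self_assoc]
    refine (congr($(h1).app U z)).trans ((sum_app _ U z).trans (Finset.sum_congr rfl fun j _ => ?_))
    exact mul_comm (scal A U (c j)) _
  let η := (Scheme.Modules.pullbackPushforwardAdjunction i).unit
  have hOq : Coh.IsQCoh O' := QCoh.isQCoh_biproduct (fun _ : R₀ => O) fun _ => QCoh.isQCoh_structureModule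
  have hIq := PPSheaf.GrCoh.isQCoh_idealMod I
  haveI : IsIso (η.app (ClSub.idealMod I)) := isIso_unit_of_killed i hIq hk
  have hnat : η.app O' ≫ (Scheme.Modules.pushforward i).map ((Scheme.Modules.pullback i).map α) =
      α ≫ η.app (ClSub.idealMod I) := (η.naturality α).symm
  have hbij : ∀ U : X.affineOpens,
      Function.Bijective (((Scheme.Modules.pushforward i).map ((Scheme.Modules.pullback i).map α)).app U.1) := fun U => by
    have hc : ∀ z, ((Scheme.Modules.pushforward i).map ((Scheme.Modules.pullback i).map α)).app U.1 ((η.app O').app U.1 z) =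
        (η.app (ClSub.idealMod I)).app U.1 (α.app U.1 z) := fun z => congr($(hnat).app U.1 z)
    have hη := (Scheme.Modules.Hom.isIso_iff_isIso_app.1 (inferInstance : IsIso (η.app (ClSub.idealMod I)))) U.1
    have hηb := (ConcreteCategory.isIso_iff_bijective _).1 hη
    refine ⟨(injective_iff_map_eq_zero _).2 fun y hy => ?_, fun w => ?_⟩
    · obtain ⟨z, rfl⟩ := (QCoh.unit_app_closed i hOq U.2).1 y
      rw [hc] at hy
      have hz : α.app U.1 z = 0 := hηb.1 (hy.trans (map_zero _).symm)
      have hs := (hval U.1 z).symm.trans ((congrArg (UnitsLib.jval I) hz).trans (map_zero _))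
      have hb := hrel U _ hs
      refine ((QCoh.unit_app_closed i hOq U.2).2 z).2 ?_
      have e : z = ∑ j, (biproduct.ι (fun _ : R₀ => O) j).app U.1 ((biproduct.π (fun _ : R₀ => O) j).app U.1 z) := by
        have e' : (∑ j, biproduct.π (fun _ : R₀ => O) j ≫ biproduct.ι (fun _ : R₀ => O) j) = 𝟙 O' := by
          refine biproduct.hom_ext' _ _ fun j => ?_
          rw [Preadditive.comp_sum, Finset.sum_eq_single j (fun b _ hb => by
            rw [← Category.assoc, biproduct.ι_π_ne _ hb.symm, zero_comp])
            (fun h => absurd (Finset.mem_univ j) h), biproduct.ι_π_self_assoc]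
          exact (Category.comp_id _).symm
        exact (congr($(e'.symm).app U.1 z)).trans (sum_app _ U.1 z)
      rw [e]
      refine Submodule.sum_mem _ fun j _ => ?_
      let one : Γ(O, U.1) := (1 : Γ(X, U.1))
      have e1 : (biproduct.π (fun _ : R₀ => O) j).app U.1 z =
          (show Γ(X, U.1) from (biproduct.π (fun _ : R₀ => O) j).app U.1 z) • one :=
        (mul_one (show Γ(X, U.1) from _)).symm
      rw [e1, Scheme.Modules.Hom.app_smul]
      exact Submodule.smul_mem_smul (hb j) Submodule.mem_top
    · obtain ⟨m, rfl⟩ := hηb.2 w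
      have hm := hB U m
      rw [hspan U, Ideal.mem_span_range_iff_exists_fun] at hm
      obtain ⟨b, hb⟩ := hm
      refine ⟨(η.app O').app U.1 (∑ j, (biproduct.ι (fun _ : R₀ => O) j).app U.1 (b j)), ?_⟩
      rw [hc]
      refine congrArg _ (UnitsLib.jval_injective I ((hval U.1 _).trans (Eq.trans ?_ hb)))
      refine Finset.sum_congr rfl fun j _ => congrArg (· * scal A U.1 (c j)) ?_
      rw [map_sum, Finset.sum_eq_single j (fun l _ hl => ?_) (fun h => absurd (Finset.mem_univ j) h)]
      · exact congr($(biproduct.ι_π_self (fun _ : R₀ => O) j).app U.1 (b j))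
      · exact congr($(biproduct.ι_π_ne (fun _ : R₀ => O) hl).app U.1 (b l))
  haveI : IsIso ((Scheme.Modules.pushforward i).map ((Scheme.Modules.pullback i).map α)) :=
    QCoh.isIso_of_isBasis _ X.isBasis_affineOpens fun U hU => hbij ⟨U, hU⟩
  haveI := AmpleVan.isIso_of_push i ((Scheme.Modules.pullback i).map α)
  haveI := preservesBiproductsOfShape_of_preservesCoproductsOfShape (J := R₀) (Scheme.Modules.pullback i)
  exact ⟨(asIso ((Scheme.Modules.pullback i).map α)).symm ≪≫ (Scheme.Modules.pullback i).mapBiproduct _⟩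

end Free

end Groth.Agent.H9LiftLF
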